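/-
Way-out lemmas for natural transformations of triangulated functors of derived categories.
-/
import Groth.Agent.DTrunc.WayOut
import Mathlib.CategoryTheory.Abelian.DiagramLemmas.Four
import Mathlib.Algebra.Homology.DerivedCategory.ShortExact
import Mathlib.Algebra.Homology.DerivedCategory.SingleTriangle

universe w₁ w₂ v₁ v₂ u₁ u₂

open CategoryTheory Limits Pretriangulated DerivedCategory

namespace Groth.Agent.WayOutLib.Basic

open Groth.Agent.DTrunc

variable {A : Type u₁} [Category.{v₁} A] [Abelian A] [HasDerivedCategory.{w₁} A]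
  {B : Type u₂} [Category.{v₂} B] [Abelian B] [HasDerivedCategory.{w₂} B]
  {Φ Ψ : DerivedCategory A ⥤ DerivedCategory B} [Φ.CommShift ℤ] [Ψ.CommShift ℤ]
  [Φ.IsTriangulated] [Ψ.IsTriangulated] (α : Φ ⟶ Ψ) [NatTrans.CommShift α ℤ]

omit [Φ.IsTriangulated] [Ψ.IsTriangulated] [NatTrans.CommShift α ℤ] in
/-- `α` on an object, in cohomological degree `i` -/
noncomputable abbrev Hα (i : ℤ) (X : DerivedCategory A) :
    (homologyFunctor B i).obj (Φ.obj X) ⟶ (homologyFunctor B i).obj (Ψ.obj X) :=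
  (homologyFunctor B i).map (α.app X)

variable (T : Triangle (DerivedCategory A)) (hT : T ∈ distTriang (DerivedCategory A))

/-- the morphism of triangles given by `α` -/
noncomputable def triMap : Φ.mapTriangle.obj T ⟶ Ψ.mapTriangle.obj T where
  hom₁ := α.app T.obj₁
  hom₂ := α.app T.obj₂
  hom₃ := α.app T.obj₃
  comm₁ := α.naturality _
  comm₂ := α.naturality _
  comm₃ := by
    show (Φ.map T.mor₃ ≫ (Φ.commShiftIso (1 : ℤ)).hom.app T.obj₁) ≫ (α.app T.obj₁)⟦(1 : ℤ)⟧' =
      α.app T.obj₃ ≫ Ψ.map T.mor₃ ≫ (Ψ.commShiftIso (1 : ℤ)).hom.app T.obj₁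
    rw [Category.assoc, NatTrans.shift_app_comm, ← Category.assoc, α.naturality, Category.assoc]

/-- the morphism of long exact sequences -/
noncomputable def seqMap (n₀ n₁ : ℤ) (h : n₀ + 1 = n₁) :
    (homologyFunctor B 0).homologySequenceComposableArrows₅ (Φ.mapTriangle.obj T) n₀ n₁ h ⟶
      (homologyFunctor B 0).homologySequenceComposableArrows₅ (Ψ.mapTriangle.obj T) n₀ n₁ h :=
  ComposableArrows.homMk₅ (Hα α n₀ T.obj₁) (Hα α n₀ T.obj₂) (Hα α n₀ T.obj₃)
    (Hα α n₁ T.obj₁) (Hα α n₁ T.obj₂) (Hα α n₁ T.obj₃)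
    (by
      refine ((Functor.map_comp ((homologyFunctor B 0).shift n₀) _ _).symm.trans ?_).trans
        (Functor.map_comp ((homologyFunctor B 0).shift n₀) _ _)
      exact congrArg _ (triMap α T).comm₁)
    (by
      refine ((Functor.map_comp ((homologyFunctor B 0).shift n₀) _ _).symm.trans ?_).trans
        (Functor.map_comp ((homologyFunctor B 0).shift n₀) _ _)
      exact congrArg _ (triMap α T).comm₂)
    (((homologyFunctor B 0).homologySequenceδ_naturality _ _ (triMap α T) n₀ n₁ h).symm)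
    (by
      refine ((Functor.map_comp ((homologyFunctor B 0).shift n₁) _ _).symm.trans ?_).trans
        (Functor.map_comp ((homologyFunctor B 0).shift n₁) _ _)
      exact congrArg _ (triMap α T).comm₁)
    (by
      refine ((Functor.map_comp ((homologyFunctor B 0).shift n₁) _ _).symm.trans ?_).trans
        (Functor.map_comp ((homologyFunctor B 0).shift n₁) _ _)
      exact congrArg _ (triMap α T).comm₂)

include hT in
theorem mono_Hα_obj₁ (n₀ n₁ : ℤ) (h : n₀ + 1 = n₁) (h₂ : Epi (Hα α n₀ T.obj₂))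
    (h₃ : Mono (Hα α n₀ T.obj₃)) (h₂' : Mono (Hα α n₁ T.obj₂)) : Mono (Hα α n₁ T.obj₁) :=
  Abelian.mono_of_epi_of_mono_of_mono'' (k := 1) (by omega : 1 + 3 ≤ 5)
    ((homologyFunctor B 0).homologySequenceComposableArrows₅_exact _ (Φ.map_distinguished T hT) n₀ n₁ h)
    ((homologyFunctor B 0).homologySequenceComposableArrows₅_exact _ (Ψ.map_distinguished T hT) n₀ n₁ h)
    (seqMap α T n₀ n₁ h) 1 2 3 4 rfl rfl rfl rfl h₂ h₃ h₂'

include hT in
theorem isIso_Hα_obj₁ (n₀ n₁ : ℤ) (h : n₀ + 1 = n₁) (h₂ : Epi (Hα α n₀ T.obj₂))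
    (h₃ : IsIso (Hα α n₀ T.obj₃)) (h₂' : IsIso (Hα α n₁ T.obj₂))
    (h₃' : Mono (Hα α n₁ T.obj₃)) : IsIso (Hα α n₁ T.obj₁) :=
  Abelian.isIso_of_epi_of_isIso_of_isIso_of_mono' (k := 1) (by omega : 1 + 4 ≤ 5)
    ((homologyFunctor B 0).homologySequenceComposableArrows₅_exact _ (Φ.map_distinguished T hT) n₀ n₁ h)
    ((homologyFunctor B 0).homologySequenceComposableArrows₅_exact _ (Ψ.map_distinguished T hT) n₀ n₁ h)
    (seqMap α T n₀ n₁ h) 1 2 3 4 5 rfl rfl rfl rfl rfl h₂ h₃ h₂' h₃'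

/-- right way-out -/
def WayOutRight (F : DerivedCategory A ⥤ DerivedCategory B) : Prop :=
  ∀ n₁ : ℤ, ∃ n₂ : ℤ, ∀ Y : DerivedCategory A, Y.IsGE n₂ → (F.obj Y).IsGE n₁

/-- left way-out -/
def WayOutLeft (F : DerivedCategory A ⥤ DerivedCategory B) : Prop :=
  ∀ n₁ : ℤ, ∃ n₂ : ℤ, ∀ Y : DerivedCategory A, Y.IsLE n₂ → (F.obj Y).IsLE n₁

lemma truncation_homology (X : DerivedCategory A) (m q : ℤ) :
    let T := (TStructure.t.triangleLTGE m).obj X
    (IsZero ((homologyFunctor A q).obj T.obj₁) ∨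
      Nonempty ((homologyFunctor A q).obj X ≅ (homologyFunctor A q).obj T.obj₁)) ∧
    (IsZero ((homologyFunctor A q).obj T.obj₃) ∨
      Nonempty ((homologyFunctor A q).obj X ≅ (homologyFunctor A q).obj T.obj₃)) := by
  intro T
  have hT : T ∈ distTriang (DerivedCategory A) := TStructure.t.triangleLTGE_distinguished m X
  have h1 : T.obj₁.IsLE (m - 1) :=
    (inferInstance : TStructure.t.IsLE ((TStructure.t.triangleLTGE m).obj X).obj₁ _)
  have h3 : T.obj₃.IsGE m :=
    (inferInstance : TStructure.t.IsGE ((TStructure.t.triangleLTGE m).obj X).obj₃ _)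
  by_cases hq : q < m
  · have := isIso_homology_mor₁ T hT m q hq
    exact ⟨Or.inr ⟨(asIso ((homologyFunctor A q).map T.mor₁)).symm⟩,
      Or.inl (isZero_of_isGE T.obj₃ m q hq)⟩
  · have h' : IsIso ((homologyFunctor A q).map T.mor₂) :=
      isIso_homology_mor₂ T hT (m - 1) q (by omega)
    exact ⟨Or.inl (isZero_of_isLE T.obj₁ (m - 1) q (by omega)),
      Or.inr ⟨@asIso _ _ _ _ _ h'⟩⟩

/-- the hypothesis on cohomology objects -/
def CohIso (X : DerivedCategory A) : Prop :=
  ∀ q, IsIso (α.app ((singleFunctor A 0).obj ((homologyFunctor A q).obj X)))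

lemma isIso_app_zero {Z : A} (hZ : IsZero Z) : IsIso (α.app ((singleFunctor A 0).obj Z)) :=
  ⟨0, (Φ.map_isZero ((singleFunctor A 0).map_isZero hZ)).eq_of_src _ _,
    (Ψ.map_isZero ((singleFunctor A 0).map_isZero hZ)).eq_of_src _ _⟩

lemma cohIso_trunc (X : DerivedCategory A) (m : ℤ) (h : CohIso α X) :
    CohIso α ((TStructure.t.triangleLTGE m).obj X).obj₁ ∧
      CohIso α ((TStructure.t.triangleLTGE m).obj X).obj₃ := by
  refine ⟨fun q => ?_, fun q => ?_⟩
  · rcases (truncation_homology X m q).1 with hz | ⟨⟨e⟩⟩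
    · exact isIso_app_zero α hz
    · have := h q
      exact isIso_app_of_iso α ((singleFunctor A 0).mapIso e)
  · rcases (truncation_homology X m q).2 with hz | ⟨⟨e⟩⟩
    · exact isIso_app_zero α hz
    · have := h q
      exact isIso_app_of_iso α ((singleFunctor A 0).mapIso e)

theorem isIso_app_of_bounded (X : DerivedCategory A) (a b : ℤ) [X.IsGE a] [X.IsLE b]
    (h : CohIso α X) : IsIso (α.app X) :=
  isIso_app_bounded α a (b + 1 - a).toNat X inferInstance
    (TStructure.t.isLE_of_le X b _ (by omega)) h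

/-- way-out right: bounded below objects -/
theorem isIso_app_of_wayOutRight (hΦ : WayOutRight Φ) (hΨ : WayOutRight Ψ)
    (X : DerivedCategory A) (a : ℤ) [X.IsGE a] (h : CohIso α X) : IsIso (α.app X) := by
  rw [DerivedCategory.isIso_iff]
  intro i
  obtain ⟨m₁, hm₁⟩ := hΦ (i + 2)
  obtain ⟨m₂, hm₂⟩ := hΨ (i + 2)
  let m : ℤ := max (max m₁ m₂) a
  let T := (TStructure.t.triangleLTGE m).obj X
  have hT : T ∈ distTriang (DerivedCategory A) := TStructure.t.triangleLTGE_distinguished m X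
  have h1 : T.obj₁.IsLE (m - 1) :=
    (inferInstance : TStructure.t.IsLE ((TStructure.t.triangleLTGE m).obj X).obj₁ _)
  have h3 : T.obj₃.IsGE m :=
    (inferInstance : TStructure.t.IsGE ((TStructure.t.triangleLTGE m).obj X).obj₃ _)
  have h1' : T.obj₁.IsGE a := by
    rw [isGE_iff]
    intro j hj
    have h' := isIso_homology_mor₁ T hT m j (lt_of_lt_of_le hj (le_max_right _ _))
    exact (isZero_of_isGE X a j hj).of_iso (@asIso _ _ _ _ _ h')
  have hiso : IsIso (α.app T.obj₁) :=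
    isIso_app_of_bounded α T.obj₁ a (m - 1) (cohIso_trunc α X m h).1
  have hΦ3 : (Φ.mapTriangle.obj T).obj₃.IsGE (i + 2) :=
    hm₁ T.obj₃ (TStructure.t.isGE_of_ge _ m₁ m (le_trans (le_max_left _ _) (le_max_left _ _)))
  have hΨ3 : (Ψ.mapTriangle.obj T).obj₃.IsGE (i + 2) :=
    hm₂ T.obj₃ (TStructure.t.isGE_of_ge _ m₂ m (le_trans (le_max_right _ _) (le_max_left _ _)))
  have i1 := isIso_homology_mor₁ _ (Φ.map_distinguished T hT) (i + 2) i (by omega)
  have i2 := isIso_homology_mor₁ _ (Ψ.map_distinguished T hT) (i + 2) i (by omega)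
  exact ((MorphismProperty.isomorphisms B).arrow_mk_iso_iff
    (Arrow.isoMk (@asIso _ _ _ _ ((homologyFunctor B i).map (Φ.mapTriangle.obj T).mor₁) i1)
      (@asIso _ _ _ _ ((homologyFunctor B i).map (Ψ.mapTriangle.obj T).mor₁) i2)
      (by
        show (homologyFunctor B i).map (Φ.map T.mor₁) ≫ (homologyFunctor B i).map (α.app T.obj₂) =
          (homologyFunctor B i).map (α.app T.obj₁) ≫ (homologyFunctor B i).map (Ψ.map T.mor₁)
        rw [← Functor.map_comp, ← Functor.map_comp, α.naturality]) :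
      Arrow.mk ((homologyFunctor B i).map (α.app T.obj₁)) ≅
        Arrow.mk ((homologyFunctor B i).map (α.app X)))).1 inferInstance

/-- way-out left: bounded above objects -/
theorem isIso_app_of_wayOutLeft (hΦ : WayOutLeft Φ) (hΨ : WayOutLeft Ψ)
    (X : DerivedCategory A) (b : ℤ) [X.IsLE b] (h : CohIso α X) : IsIso (α.app X) := by
  rw [DerivedCategory.isIso_iff]
  intro i
  obtain ⟨m₁, hm₁⟩ := hΦ (i - 2)
  obtain ⟨m₂, hm₂⟩ := hΨ (i - 2)
  let m : ℤ := min (min (m₁ + 1) (m₂ + 1)) b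
  let T := (TStructure.t.triangleLTGE m).obj X
  have hT : T ∈ distTriang (DerivedCategory A) := TStructure.t.triangleLTGE_distinguished m X
  have h1 : T.obj₁.IsLE (m - 1) :=
    (inferInstance : TStructure.t.IsLE ((TStructure.t.triangleLTGE m).obj X).obj₁ _)
  have h3 : T.obj₃.IsGE m :=
    (inferInstance : TStructure.t.IsGE ((TStructure.t.triangleLTGE m).obj X).obj₃ _)
  have h3' : T.obj₃.IsLE b := by
    rw [isLE_iff]
    intro j hj
    have h' := isIso_homology_mor₂ T hT (m - 1) j (by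
      have : m ≤ b := min_le_right _ _
      omega)
    exact (isZero_of_isLE X b j hj).of_iso (@asIso _ _ _ _ _ h').symm
  have hiso : IsIso (α.app T.obj₃) :=
    isIso_app_of_bounded α T.obj₃ m b (cohIso_trunc α X m h).2
  have hΦ1 : (Φ.mapTriangle.obj T).obj₁.IsLE (i - 2) :=
    hm₁ T.obj₁ (TStructure.t.isLE_of_le _ (m - 1) m₁ (by
      have : m ≤ m₁ + 1 := le_trans (min_le_left _ _) (min_le_left _ _)
      omega))
  have hΨ1 : (Ψ.mapTriangle.obj T).obj₁.IsLE (i - 2) :=
    hm₂ T.obj₁ (TStructure.t.isLE_of_le _ (m - 1) m₂ (by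
      have : m ≤ m₂ + 1 := le_trans (min_le_left _ _) (min_le_right _ _)
      omega))
  have i1 := isIso_homology_mor₂ _ (Φ.map_distinguished T hT) (i - 2) i (by omega)
  have i2 := isIso_homology_mor₂ _ (Ψ.map_distinguished T hT) (i - 2) i (by omega)
  exact ((MorphismProperty.isomorphisms B).arrow_mk_iso_iff
    (Arrow.isoMk (@asIso _ _ _ _ ((homologyFunctor B i).map (Φ.mapTriangle.obj T).mor₂) i1)
      (@asIso _ _ _ _ ((homologyFunctor B i).map (Ψ.mapTriangle.obj T).mor₂) i2)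
      (by
        show (homologyFunctor B i).map (Φ.map T.mor₂) ≫ (homologyFunctor B i).map (α.app T.obj₃) =
          (homologyFunctor B i).map (α.app T.obj₂) ≫ (homologyFunctor B i).map (Ψ.map T.mor₂)
        rw [← Functor.map_comp, ← Functor.map_comp, α.naturality]) :
      Arrow.mk ((homologyFunctor B i).map (α.app X)) ≅
        Arrow.mk ((homologyFunctor B i).map (α.app T.obj₃)))).2 inferInstance

/-- way-out in both directions -/
theorem isIso_app_of_wayOutBoth (hΦ : WayOutRight Φ) (hΨ : WayOutRight Ψ) (hΦ' : WayOutLeft Φ)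
    (hΨ' : WayOutLeft Ψ) (X : DerivedCategory A) (h : CohIso α X) : IsIso (α.app X) := by
  have hT : (TStructure.t.triangleLTGE 0).obj X ∈ distTriang (DerivedCategory A) :=
    TStructure.t.triangleLTGE_distinguished 0 X
  have h1 : ((TStructure.t.triangleLTGE 0).obj X).obj₁.IsLE (0 - 1) :=
    (inferInstance : TStructure.t.IsLE ((TStructure.t.triangleLTGE 0).obj X).obj₁ _)
  have h3 : ((TStructure.t.triangleLTGE 0).obj X).obj₃.IsGE 0 :=
    (inferInstance : TStructure.t.IsGE ((TStructure.t.triangleLTGE 0).obj X).obj₃ _)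
  exact isIso_app_obj₂ α _ hT
    (isIso_app_of_wayOutLeft α hΦ' hΨ' _ (0 - 1) (cohIso_trunc α X 0 h).1)
    (isIso_app_of_wayOutRight α hΦ hΨ _ 0 (cohIso_trunc α X 0 h).2)

/-- way-out right and cogenerated -/
theorem isIso_app_single_of_cogenerating (P : ObjectProperty A)
    (hP : ∀ X : A, ∃ (Y : A) (i : X ⟶ Y), P Y ∧ Mono i) (hΦ : WayOutRight Φ) (hΨ : WayOutRight Ψ)
    (hη : ∀ X : A, P X → IsIso (α.app ((singleFunctor A 0).obj X))) (X : A) :
    IsIso (α.app ((singleFunctor A 0).obj X)) := by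
  obtain ⟨a, ha⟩ := hΦ 0
  obtain ⟨b, hb⟩ := hΨ 0
  let m := max a b
  have hge : ∀ (F : DerivedCategory A ⥤ DerivedCategory B) [F.CommShift ℤ] (n : ℤ), n ≤ m →
      (∀ Y : DerivedCategory A, Y.IsGE n → (F.obj Y).IsGE 0) →
      ∀ (Z : A), (F.obj ((singleFunctor A 0).obj Z)).IsGE (-m) := by
    intro F _ n hn hF Z
    have hY : ((singleFunctor A m).obj Z).IsGE n := TStructure.t.isGE_of_ge _ n m hn
    have := hF _ hY
    have hs : TStructure.t.IsGE ((F.obj ((singleFunctor A m).obj Z))⟦m⟧) (-m) :=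
      TStructure.t.isGE_shift (F.obj ((singleFunctor A m).obj Z)) 0 m (-m) (by omega)
    exact TStructure.t.isGE_of_iso (((F.commShiftIso m).symm.app _ ≪≫
      F.mapIso (((singleFunctors A).shiftIso m 0 m (by omega)).app Z)) :
        (F.obj ((singleFunctor A m).obj Z))⟦m⟧ ≅ F.obj ((singleFunctor A 0).obj Z)) (-m)
  suffices ∀ (k : ℕ) (Z : A) (i : ℤ), i < -m + k → IsIso (Hα α i ((singleFunctor A 0).obj Z)) by
    rw [DerivedCategory.isIso_iff]
    exact fun i => this ((i + m + 1).toNat) X i (by omega)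
  intro k
  induction k with
  | zero =>
    intro Z i hi
    have h1 := hge Φ a (le_max_left _ _) ha Z
    have h2 := hge Ψ b (le_max_right _ _) hb Z
    exact ⟨0, (isZero_of_isGE (Φ.obj ((singleFunctor A 0).obj Z)) (-m) i (by omega)).eq_of_src _ _,
      (isZero_of_isGE (Ψ.obj ((singleFunctor A 0).obj Z)) (-m) i (by omega)).eq_of_src _ _⟩
  | succ k ih =>
    have key : ∀ Z : A, ∃ T ∈ distTriang (DerivedCategory A), ∃ C : A,
        T.obj₁ = (singleFunctor A 0).obj Z ∧ IsIso (α.app T.obj₂) ∧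
          Nonempty (T.obj₃ ≅ (singleFunctor A 0).obj C) := by
      intro Z
      obtain ⟨Y, ι, hY, hι⟩ := hP Z
      have hS : (ShortComplex.mk _ _ (cokernel.condition ι)).ShortExact :=
        ShortComplex.ShortExact.mk' (ShortComplex.exact_cokernel ι) hι inferInstance
      exact ⟨_, hS.singleTriangle_distinguished, cokernel ι, rfl, hη Y hY, ⟨Iso.refl _⟩⟩
    have harr : ∀ (T : Triangle (DerivedCategory A)) (C : A)
        (e : T.obj₃ ≅ (singleFunctor A 0).obj C) (j : ℤ),
        Arrow.mk (Hα α j T.obj₃) ≅ Arrow.mk (Hα α j ((singleFunctor A 0).obj C)) :=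
      fun T C e j => (Functor.mapArrow (homologyFunctor B j)).mapIso
        (Arrow.isoMk (Φ.mapIso e) (Ψ.mapIso e) (α.naturality e.hom) :
          Arrow.mk (α.app T.obj₃) ≅ Arrow.mk (α.app ((singleFunctor A 0).obj C)))
    have hmono : ∀ Z : A, Mono (Hα α (-m + k) ((singleFunctor A 0).obj Z)) := by
      intro Z
      obtain ⟨T, hT, C, h1, h2, ⟨e⟩⟩ := key Z
      rw [← h1]
      have : IsIso (Hα α (-m + k - 1) T.obj₂) := inferInstance
      have : IsIso (Hα α (-m + k) T.obj₂) := inferInstance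
      have h3 : IsIso (Hα α (-m + k - 1) T.obj₃) :=
        ((MorphismProperty.isomorphisms B).arrow_mk_iso_iff (harr T C e _)).2
          (ih C (-m + k - 1) (by omega))
      exact mono_Hα_obj₁ α T hT (-m + k - 1) (-m + k) (by omega) inferInstance inferInstance
        inferInstance
    intro Z i hi
    by_cases hi' : i < -m + k
    · exact ih Z i hi'
    obtain rfl : i = -m + k := by omega
    obtain ⟨T, hT, C, h1, h2, ⟨e⟩⟩ := key Z
    rw [← h1]
    exact isIso_Hα_obj₁ α T hT (-m + k - 1) (-m + k) (by omega) inferInstance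
      (((MorphismProperty.isomorphisms B).arrow_mk_iso_iff (harr T C e _)).2 (ih C _ (by omega)))
      inferInstance
      (((MorphismProperty.monomorphisms B).arrow_mk_iso_iff (harr T C e _)).2 (hmono C))

end Groth.Agent.WayOutLib.Basic
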